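import Mathlib
import Cfsg.Agent.K5T.Bas
import Cfsg.Agent.S4593
import Cfsg.Agent.Block.AbSyl
import Cfsg.Agent.PLocal.AmbSyl
import Cfsg.Agent.Grp.MinNormal

set_option autoImplicit false

namespace Cfsg.Agent.K5T

open Subgroup Cfsg Cfsg.Agent.Block Cfsg.Agent.Char Cfsg.Agent.TrP
open Cfsg.Agent.PLocal.Amb

variable {G : Type*} [Group G] [Finite G]

theorem abs_np {K : Subgroup G} {x : G} (h : ¬ HasNormalPComplement 2 K) (hx : ∀ k ∈ K, k * x = x * k) :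
    ¬ NP x := fun k =>
  h (Transfer.HasNormalPComplement.of_le k fun y hy => mem_centralizer_singleton_iff.2 (hx y hy))

theorem abs_ex (P : Sylow 2 G) {N H : Subgroup G} [N.Normal] (h1 : H ≤ N) (h2 : N ≤ 𝐍[H])
    (h3 : 2 ∣ Nat.card H) : ∃ s ∈ (P : Subgroup G), s ∈ H ∧ s ≠ 1 := by
  have a := ((isSyl_top P).inf_of_le (N := N) le_top (normalizer_eq_top N).ge).inf_of_le h1 h2
  by_contra k
  push Not at k
  exact a.eq_bot_iff.1 (eq_bot_iff.2 fun s hs => k s hs.1.1 hs.2) h3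

theorem abs_even (hO : pPrimeCore 2 G = ⊥) {H : Subgroup G} (hH : H.Normal) (h : H ≠ ⊥) :
    2 ∣ Nat.card H := by
  by_contra k
  exact h (Grp.pPrimeCore_eq_bot_iff.1 hO H hH (Nat.prime_two.coprime_iff_not_dvd.2 k).symm)

theorem abs_three (hO : pPrimeCore 2 G = ⊥) (P : Sylow 2 G) {A B : Subgroup G} (nA : A.Normal) (nB : B.Normal)
    (hA : A ≠ ⊥) (hB : B ≠ ⊥) (h : ∀ x ∈ A, x ∈ B → x = 1) (hb : ∀ a ∈ A, ¬ NP a) :
    ∃ x ∈ (P : Subgroup G), ∃ y ∈ (P : Subgroup G), ∃ z ∈ (P : Subgroup G), x ≠ 1 ∧ y ≠ 1 ∧ z ≠ 1 ∧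
      ¬ IsConj x y ∧ ¬ IsConj x z ∧ ¬ IsConj y z ∧ ¬ NP x := by
  obtain ⟨a, a1, a2, a3⟩ := abs_ex P (N := ⊤) le_top (normalizer_eq_top A).ge (abs_even hO nA hA)
  obtain ⟨s, s1, s2, s3⟩ := abs_ex P (N := ⊤) le_top (normalizer_eq_top B).ge (abs_even hO nB hB)
  have k1 : a * s ∉ A := fun k => s3 (h s ((mul_mem_cancel_left a2).1 k) s2)
  have k2 : a * s ∉ B := fun k => a3 (h a a2 ((mul_mem_cancel_right s2).1 k))
  refine ⟨a, a1, s, s1, a * s, mul_mem a1 s1, a3, s3, fun k => k1 (k ▸ one_mem _), fun k => ?_, fun k => ?_,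
    fun k => ?_, hb a a2⟩ <;> obtain ⟨g, e⟩ := isConj_iff.1 k
  · exact s3 (h s (e ▸ nA.conj_mem a a2 g) s2)
  · exact k1 (e ▸ nA.conj_mem a a2 g)
  · exact k2 (e ▸ nB.conj_mem s s2 g)

/-- `K` is a minimal normal subgroup of `N` -/
def AbsMN (N K : Subgroup G) : Prop :=
  K ≠ ⊥ ∧ K ≤ N ∧ N ≤ 𝐍[K] ∧ ∀ M ≤ K, N ≤ 𝐍[M] → M = ⊥ ∨ M = K

omit [Finite G] in
theorem abs_ncj {N K : Subgroup G} [N.Normal] (h : N ≤ 𝐍[K]) (g : G) : N ≤ 𝐍[cj(g, K)] := by
  rw [normalizer_cj, ← cj_of_normal g N]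
  exact cj_mono g h

omit [Finite G] in
theorem AbsMN.cj {N K : Subgroup G} [N.Normal] (h : AbsMN N K) (g : G) : AbsMN N cj(g, K) := by
  refine ⟨fun k => h.1 ?_, (cj_mono g h.2.1).trans (cj_of_normal g N).le, abs_ncj h.2.2.1 g, fun M h1 h2 => ?_⟩
  · rw [← cj_inv_cj g K, k, cj_bot]
  · rcases h.2.2.2 _ (le_cj_iff.1 h1) (abs_ncj h2 g⁻¹) with k | k
    · left; rw [← cj_cj_inv g M, k, cj_bot]
    · right; rw [← k, cj_cj_inv]

theorem AbsMN.bad (hO : pPrimeCore 2 G = ⊥) (h2 : pCore 2 G = ⊥) {N K : Subgroup G} [N.Normal]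
    (h : AbsMN N K) : ¬ HasNormalPComplement 2 K := fun k => h.1 (by
  rcases h.2.2.2 _ (pRes_le 2 K) (h.2.2.1.trans (normalizer_le_normalizer_pRes 2 K)) with e | e
  · rw [eq_bot_iff, ← h2, ← pCoreOf_top]
    exact (le_pCoreOf (isPGroup_of_pRes_le IsPGroup.of_bot e.le) h.2.1 h.2.2.1).trans
      (pCoreOf_mono_of_normal le_top (normalizer_eq_top N).ge)
  · have c := Transfer.hasNormalPComplement_iff_coprime.1 k
    rw [← card_map_of_injective K.subtype_injective, e] at c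
    rw [eq_bot_iff, ← hO]
    exact (Grp.le_map_pPrimeCore h.2.1 h.2.2.1 c).trans (Grp.map_pPrimeCore_le_of_normal 2 N))

theorem AbsMN.ex (hO : pPrimeCore 2 G = ⊥) (h2 : pCore 2 G = ⊥) (P : Sylow 2 G) {N K : Subgroup G} [N.Normal]
    (h : AbsMN N K) : ∃ s ∈ (P : Subgroup G), s ∈ K ∧ s ≠ 1 :=
  abs_ex P h.2.1 h.2.2.1 (by
    by_contra k
    exact h.bad hO h2 (Transfer.hasNormalPComplement_of_coprime (Nat.prime_two.coprime_iff_not_dvd.2 k).symm))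

theorem AbsMN.cen (hO : pPrimeCore 2 G = ⊥) (h2 : pCore 2 G = ⊥) {N K : Subgroup G} [N.Normal]
    (h : AbsMN N K) {s : G} (hs : s ∈ K) (c : ∀ k ∈ K, k * s = s * k) : s = 1 := by
  rcases h.2.2.2 (K ⊓ 𝐂[K]) inf_le_left (le_normalizer_inf h.2.2.1
    (h.2.2.1.trans (normalizer_le_normalizer_centralizer K))) with e | e
  · exact mem_bot.1 (e ▸ mem_inf.2 ⟨hs, c⟩)
  · refine absurd ((Transfer.hasNormalPComplement_subgroup_iff_mul K).2 fun x hx y hy a b => ?_) (h.bad hO h2)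
    have c : Commute x y := (e.ge hy).2 x hx
    exact (Nat.Coprime.mul_left a b).coprime_dvd_left c.orderOf_mul_dvd_mul_orderOf

omit [Finite G] in
theorem AbsMN.eq {N K L : Subgroup G} (h : AbsMN N K) (h' : AbsMN N L) {s : G} (a : s ∈ K) (b : s ∈ L)
    (s1 : s ≠ 1) : K = L := by
  rcases h.2.2.2 (K ⊓ L) inf_le_left (le_normalizer_inf h.2.2.1 h'.2.2.1) with e | e
  · exact absurd (mem_bot.1 (e ▸ mem_inf.2 ⟨a, b⟩)) s1
  · exact (h'.2.2.2 K (inf_eq_left.1 e) h.2.2.1).resolve_left h.1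

omit [Finite G] in
theorem AbsMN.com {N K L : Subgroup G} (h : AbsMN N K) (h' : AbsMN N L) (ne : K ≠ L) {x y : G} (a : x ∈ K)
    (b : y ∈ L) : x * y = y * x := by
  by_contra k
  refine ne (h.eq h' (s := x * y * x⁻¹ * y⁻¹) ?_ ?_ fun e => k ?_)
  · rw [mul_assoc, mul_assoc, ← mul_assoc y]
    exact mul_mem a (conj_mem_of_mem_normalizer (h.2.2.1 (h'.2.1 b)) (inv_mem a))
  · exact mul_mem (conj_mem_of_mem_normalizer (h'.2.2.1 (h.2.1 a)) b) (inv_mem b)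
  · rwa [mul_inv_eq_one, mul_inv_eq_iff_eq_mul] at e

theorem abs_two (hO : pPrimeCore 2 G = ⊥) (h2 : pCore 2 G = ⊥) (P : Sylow 2 G)
    (hab : IsMulCommutative (P : Subgroup G)) {N K L : Subgroup G} [N.Normal] (hK : AbsMN N K)
    (hL : AbsMN N L) (ne : K ≠ L) :
    ∃ x ∈ (P : Subgroup G), ∃ y ∈ (P : Subgroup G), x ≠ 1 ∧ y ≠ 1 ∧ ¬ IsConj x y ∧ ¬ NP x ∧ ¬ NP y := by
  obtain ⟨s, s1, s2, s3⟩ := hK.ex hO h2 P
  obtain ⟨t, t1, t2, t3⟩ := hL.ex hO h2 P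
  have ns : ¬ NP s := abs_np (hL.bad hO h2) fun k hk => hL.com hK ne.symm hk s2
  by_cases c : IsConj s t
  swap
  · exact ⟨s, s1, t, t1, s3, t3, c, ns, abs_np (hK.bad hO h2) fun k hk => hK.com hL ne hk t2⟩
  obtain ⟨n, hn, e⟩ := mem_ncl_of_isConj P s1 t1 c
  have e1 : cj(n, K) = L := (hK.cj n).eq hL (e ▸ conj_mem_cj n s2) t2 t3
  have tK : t ∉ K := fun k => ne (hK.eq hL k t2 t3)
  have n1 : cj(n, L) ≠ L := fun k => ne (cj_inj.1 (e1.trans k.symm))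
  have n2 : cj(n, L) ≠ K := fun k => by
    rw [← e1, ← cj_mul, cj_eq_iff, ← pow_two] at k
    obtain ⟨j, hj⟩ : Odd (inert (P : Subgroup G)) :=
      Nat.not_even_iff_odd.1 fun k => not_dvd_relIndex_centralizer_normalizer P k.two_dvd
    have k1 := pow_inert_mem (P : Subgroup G) hn
    have k2 : cj(n ^ inert (P : Subgroup G), K) = K := (hK.cj _).eq hK (by
      have := conj_mem_cj (n ^ inert (P : Subgroup G)) s2
      rwa [← k1 s s1, mul_inv_cancel_right] at this) s2 s3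
    rw [cj_eq_iff, hj, pow_succ, pow_mul, mul_mem_cancel_left (pow_mem k j), ← cj_eq_iff] at k2
    exact ne (k2.symm.trans e1)
  have st : s * t ∉ K := fun k => tK ((mul_mem_cancel_left s2).1 k)
  refine ⟨s, s1, s * t, mul_mem s1 t1, s3, fun k => st (k ▸ one_mem _), fun k => ?_, ns,
    abs_np ((hL.cj n).bad hO h2) fun k hk => ?_⟩
  · obtain ⟨g, eg⟩ := isConj_iff.1 k
    have m : s * t ∈ cj(g, K) := eg ▸ conj_mem_cj g s2
    refine s3 (hK.cen hO h2 s2 fun k hk => ?_)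
    have a := hK.com (hK.cj g) (fun e => st (e ▸ m)) hk m
    rwa [mul_assoc, ← hK.com hL ne hk t2, ← mul_assoc, ← mul_assoc, mul_left_inj] at a
  · rw [← mul_assoc, (hL.cj n).com hK n2 hk s2, mul_assoc, (hL.cj n).com hL n1 hk t2, mul_assoc]

/-- Abelian Sylow 2-subgroup, `O(G) = 1`.  Suppose `P` is not normal (so `P ≠ 1`, `G ≠ 1`); let `N`
be a minimal normal subgroup (even order as `O(G) = 1`).  A subgroup of a group with a normal
2-complement has one (`Transfer.HasNormalPComplement.subgroup`); a normal subgroup `C` of `G` with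
a normal 2-complement is a 2-group (the complement is characteristic of odd order).
* `N` a 2-group: `N ≤ P`, `C = C_G(N) ≥ P` is normal and has no normal 2-complement (else
  `C = P` is normal).  `C'` is normal in `G`, of even order (else trivial, `C` abelian has a normal
  2-complement), and `N ⊓ C' = 1` (transfer: `P ⊓ C' ⊓ Z(C) = 1` for abelian Sylow `P`).  Take
  involutions `a ∈ N`, `s ∈ P ⊓ C'`; then `a, s, a s` are pairwise non-conjugate (`N`, `C'` normal)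
  and `C(a) ≥ C`.
* otherwise `O₂(N) = 1 = O(N)`; let `K` be minimal normal in `N`; `K` has no normal 2-complement
  (else its complement is normal in `N` of odd order, so trivial, so `K ≤ O₂(N)`), `Z(K) = 1`, two
  distinct conjugates of `K` commute and meet trivially; `P ⊓ K^g ≠ 1` (`P ⊓ N` is Sylow in `N`).
  If `K₂ = K^g ≠ K₁ = K` take involutions `sᵢ ∈ P ⊓ Kᵢ`; `¬ NP s₁` (`C(s₁) ≥ K₂`), `¬ NP s₂`.  If
  `s₁ ≁ s₂` done.  Otherwise `s₂ = s₁^n`, `n ∈ N(P)` (`Block.mem_ncl_of_isConj`); `n^e ∈ C(P)` for the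
  odd `e = inert P` (`pow_inert_mem`).  `K₁^n ∋ s₂` so `K₁^n = K₂`, and `K₃ = K₁^(n²)` is `≠ K₂` and
  `≠ K₁` (else `n²` and `n^e` [it fixes `s₁`] normalise `K₁`, so `n` does).  Then `C(s₁ s₂) ≥ K₃`, so
  `¬ NP (s₁ s₂)`, and `s₁ ≁ s₁ s₂` (a conjugate of `K₁` containing `s₁ s₂` is `≠ K₁` as `s₂ ∉ K₁`, so it
  centralizes `K₁`, so `s₁ ∈ Z(K₁) = 1`).
  So `K` is normal in `G`, `K = N` is simple, non-abelian.  `C = C_G(N)`, `N ⊓ C = 1`.  If `#C` is
  even take involutions `a ∈ P ⊓ C`, `s ∈ P ⊓ N`: `a, s, a s` work.  Otherwise `C = 1`; for `x ∈ P`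
  conjugation by `x` is an automorphism of `N` of 2-power order fixing the Sylow subgroup
  `P ⊓ N` pointwise, so inner by `S4593.result`, so `x ∈ N C = N`. -/
theorem abs (hO : pPrimeCore 2 G = ⊥) (P : Sylow 2 G) (hab : IsMulCommutative (P : Subgroup G)) :
    (P : Subgroup G).Normal ∨
    (∃ N : Subgroup G, N.Normal ∧ IsSimpleGroup N ∧ ¬ IsMulCommutative N ∧ (P : Subgroup G) ≤ N) ∨
    (∃ x ∈ (P : Subgroup G), ∃ y ∈ (P : Subgroup G), ∃ z ∈ (P : Subgroup G), x ≠ 1 ∧ y ≠ 1 ∧ z ≠ 1 ∧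
      ¬ IsConj x y ∧ ¬ IsConj x z ∧ ¬ IsConj y z ∧ ¬ NP x) ∨
    (∃ x ∈ (P : Subgroup G), ∃ y ∈ (P : Subgroup G), x ≠ 1 ∧ y ≠ 1 ∧ ¬ IsConj x y ∧ ¬ NP x ∧ ¬ NP y) := by
  have ab : ∀ x ∈ (P : Subgroup G), ∀ y ∈ (P : Subgroup G), x * y = y * x := fun x hx y hy =>
    congrArg Subtype.val (hab.1.1 ⟨x, hx⟩ ⟨y, hy⟩)
  by_cases h2 : pCore 2 G = ⊥
  swap
  · have nC : 𝐂[pCore 2 G].Normal := normal_centralizer
    have PC : (P : Subgroup G) ≤ 𝐂[pCore 2 G] := fun x hx y hy => ab y (Grp.pCore_le_sylow P hy) x hx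
    have nB : 𝐎[2, 𝐂[pCore 2 G]].Normal := normalizer_eq_top_iff.1 (top_le_iff.1
      ((normalizer_eq_top _).ge.trans (normalizer_le_normalizer_pRes 2 _)))
    by_cases hB : 𝐎[2, 𝐂[pCore 2 G]] = ⊥
    · exact .inl (P.is_maximal' (isPGroup_of_pRes_le IsPGroup.of_bot hB.le) PC ▸ nC)
    refine .inr (.inr (.inl (abs_three hO P inferInstance nB h2 hB ?_ fun a ha =>
      abs_np (K := 𝐂[pCore 2 G]) (fun k => ?_) fun k hk => (hk a ha).symm)))
    · rintro _ hx ⟨y, hy, rfl⟩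
      have k := (Transfer.isComplement'_pResidual_of_comm (P.subtype PC) ⟨⟨fun a b =>
        Subtype.ext (Subtype.ext (ab _ a.2 _ b.2))⟩⟩).disjoint
      have : y = 1 := disjoint_def.1 k hy ⟨Grp.pCore_le_sylow P hx, fun z _ => Subtype.ext (z.2 _ hx).symm⟩
      rw [this, map_one]
    · have c := Transfer.hasNormalPComplement_iff_coprime.1 k
      rw [← card_map_of_injective (subtype_injective _)] at c
      exact Nat.prime_two.coprime_iff_not_dvd.1 c.symm (abs_even hO nB hB)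
  rcases subsingleton_or_nontrivial G with h1 | h1
  · exact .inl ⟨fun n hn g => Subsingleton.elim n (g * n * g⁻¹) ▸ hn⟩
  obtain ⟨N, nN, N1, mN⟩ := Grp.exists_minNormal G
  obtain ⟨K, ⟨k1, k2, k3⟩, k4⟩ := (wellFounded_lt (α := Subgroup G)).has_min
    {K | K ≠ ⊥ ∧ K ≤ N ∧ N ≤ 𝐍[K]} ⟨N, N1, le_rfl, le_normalizer⟩
  have hK : AbsMN N K := ⟨k1, k2, k3, fun M m1 m2 => or_iff_not_imp_left.2 fun m3 =>
    m1.eq_of_not_lt (k4 M ⟨m3, m1.trans k2, m2⟩)⟩
  by_cases hg : ∃ g : G, K ≠ cj(g, K)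
  · obtain ⟨g, hg⟩ := hg
    exact .inr (.inr (.inr (abs_two hO h2 P hab hK (hK.cj g) hg)))
  push Not at hg
  obtain rfl : K = N := (mN K (normalizer_eq_top_iff.1 (top_le_iff.1 fun g _ => cj_eq_iff.1 (hg g).symm))
    k2).resolve_left k1
  by_cases hC : 𝐂[K] = ⊥
  swap
  · exact .inr (.inr (.inl (abs_three hO P normal_centralizer nN hC k1
      (fun x hx hx' => hK.cen hO h2 hx' hx) fun a ha => abs_np (hK.bad hO h2) ha)))
  have := (nontrivial_iff_ne_bot K).2 k1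
  refine .inr (.inl ⟨K, nN, ⟨fun M hM => ?_⟩, fun k => ?_, fun x hx => ?_⟩)
  · refine (hK.2.2.2 (M.map K.subtype) (map_subtype_le M) ?_).imp
      (map_eq_bot_iff_of_injective _ K.subtype_injective).1 fun e => map_injective K.subtype_injective ?_
    · have := le_normalizer_map (H := M) K.subtype
      rwa [normalizer_eq_top, ← MonoidHom.range_eq_map, range_subtype] at this
    · rw [e, ← MonoidHom.range_eq_map, range_subtype]
  · exact k1 (eq_bot_iff.2 fun s hs => hK.cen hO h2 hs fun y hy =>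
      congrArg Subtype.val (k.1.1 ⟨y, hy⟩ ⟨s, hs⟩))
  · obtain ⟨Q, hQ⟩ := ((isSyl_top P).inf_of_le (N := K) le_top (normalizer_eq_top K).ge).exists_sylow
    have m : ∀ y ∈ (Q : Subgroup K), (y : G) ∈ (P : Subgroup G) := fun y hy => by
      rw [hQ] at hy; exact hy.1
    obtain ⟨j, hj⟩ := IsPGroup.iff_orderOf.1 P.isPGroup' ⟨x, hx⟩
    rw [orderOf_mk] at hj
    obtain ⟨g, e⟩ := S4593.result (G := K) (eq_bot_iff.2 fun s hs => Subtype.ext (hK.cen hO h2 s.2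
        fun y hy => congrArg Subtype.val (mem_center_iff.1 hs ⟨y, hy⟩)))
      (by rw [Grp.pPrimeCore_eq_subgroupOf_of_normal, hO, bot_subgroupOf]) Q
      ⟨⟨fun a b => Subtype.ext (Subtype.ext (ab _ (m _ a.2) _ (m _ b.2)))⟩⟩ (MulAut.conjNormal x)
      (((Nat.dvd_prime_pow Nat.prime_two).1 (hj ▸ orderOf_map_dvd MulAut.conjNormal x)).imp fun _ h => h.2)
      fun y hy => Subtype.ext (by rw [MulAut.conjNormal_apply, ab x hx _ (m y hy), mul_inv_cancel_right])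
    have : (g : G)⁻¹ * x ∈ 𝐂[K] := fun y hy => by
      have := congrArg Subtype.val (e ⟨y, hy⟩)
      rw [MulAut.conjNormal_apply, coe_mul, coe_mul, coe_inv] at this
      calc y * ((g : G)⁻¹ * x) = (g : G)⁻¹ * (g * y * (g : G)⁻¹) * x := by group
        _ = _ := by rw [← this]; group
    rw [hC, mem_bot, inv_mul_eq_one] at this
    exact this ▸ g.2

end Cfsg.Agent.K5T
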