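import Mathlib
import Cfsg.Agent.K5T.Bas
import Cfsg.Agent.S4528
import Cfsg.Agent.S4529
import Cfsg.Agent.S4530
import Cfsg.Agent.S4399
import Cfsg.Agent.S0112
import Cfsg.Agent.Grp.PFrattini

set_option autoImplicit false

namespace Cfsg.Agent.K5T

open Subgroup Cfsg Cfsg.Agent.Block Cfsg.Agent.Char Cfsg.Agent.TrP

theorem card_ab_le {S : Type*} [Group S] [Finite S] (u : S) :
    Nat.card (Abelianization S) ≤ Nat.card (centralizer ({u} : Set S)) := by
  have h1 : (centralizer ({u} : Set S)).index ≤ Nat.card (commutator S) := by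
    refine Nat.card_le_card_of_injective (fun q => ⟨q.out * u * q.out⁻¹ * u⁻¹,
      commutator_mem_commutator (mem_top _) (mem_top _)⟩) fun q r e => ?_
    have e' : q.out * u * q.out⁻¹ = r.out * u * r.out⁻¹ := mul_right_cancel (congrArg Subtype.val e)
    rw [← q.out_eq', ← r.out_eq', QuotientGroup.eq, mem_centralizer_singleton_iff]
    calc q.out⁻¹ * r.out * u = q.out⁻¹ * (r.out * u * r.out⁻¹) * r.out := by group
      _ = _ := by rw [← e']; group
  have h2 := (centralizer ({u} : Set S)).index_mul_card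
  have h3 : Nat.card (Abelianization S) * Nat.card (commutator S) = Nat.card S :=
    (commutator S).index_mul_card
  refine Nat.le_of_mul_le_mul_right (c := Nat.card (commutator S)) ?_ Nat.card_pos
  rw [h3, ← h2, mul_comm]
  exact Nat.mul_le_mul_left _ h1

theorem ab_not_cyc {S : Type*} [Group S] [Finite S] (h2 : IsPGroup 2 S)
    (hna : ¬ IsMulCommutative S) : ¬ IsCyclic (Abelianization S) := fun h => by
  obtain ⟨x, hx⟩ := IsCyclic.exists_generator (α := Abelianization S)
  obtain ⟨a, rfl⟩ : ∃ a : S, Abelianization.of a = x := QuotientGroup.mk_surjective x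
  have h3 : zpowers a = ⊤ := frattini_nongenerating (eq_top_iff.2 fun g _ => by
    obtain ⟨n, hn⟩ := hx (Abelianization.of g)
    have h4 : (a ^ n)⁻¹ * g ∈ commutator S := by
      rw [← Abelianization.ker_of, MonoidHom.mem_ker, map_mul, map_inv, map_zpow, ← hn]
      simp
    simpa using mul_mem (mem_sup_left (zpow_mem_zpowers a n))
      (mem_sup_right (Grp.PFrattini.commutator_le_frattini h2 h4)))
  have : IsCyclic S := isCyclic_iff_exists_zpowers_eq_top.2 ⟨a, h3⟩
  exact hna inferInstance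

/-- A non-abelian 2-group with an element centralizer of order `≤ 4` has abelianization of order
`4` (e.g. `#C_S(u) ≥ #(S/S')` since the class of `u` lies in `u S'`; and `S/S'` is not cyclic as `S`
is not cyclic), so `S4399.result` applies. -/
theorem mc_grp {S : Type*} [Group S] [Finite S] (h2 : IsPGroup 2 S) (hna : ¬ IsMulCommutative S)
    {u : S} (hu : Nat.card (centralizer ({u} : Set S)) ≤ 4) :
    (∃ k : ℕ, Nonempty (S ≃* DihedralGroup (2 ^ (k + 2)))) ∨
      (∃ k : ℕ, Nat.card S = 2 ^ (k + 4) ∧ IsQuasiDihedral S) ∨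
      (∃ k : ℕ, Nonempty (S ≃* QuaternionGroup (2 ^ (k + 1)))) := by
  have h3 := (card_ab_le u).trans hu
  have h4 := ab_not_cyc h2 hna
  have h5 : IsPGroup 2 (Abelianization S) := h2.to_quotient _
  obtain ⟨n, hn⟩ := IsPGroup.iff_card.1 h5
  have h6 : Nat.card (Abelianization S) = 4 := by
    have h7 : n < 3 := (Nat.pow_lt_pow_iff_right one_lt_two).1 (by omega)
    interval_cases n
    · exact (h4 (isCyclic_of_card_dvd_prime (p := 2) (by simp [hn]))).elim
    · exact (h4 (isCyclic_of_card_dvd_prime (p := 2) (by simp [hn]))).elim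
    · exact hn
  have h7 : ∀ x : Abelianization S, x ^ 2 = 1 := fun x => by
    have h8 := orderOf_dvd_natCard x
    rw [h6, show 4 = 2 ^ 2 from rfl, Nat.dvd_prime_pow Nat.prime_two] at h8
    obtain ⟨k, hk, e⟩ := h8
    refine orderOf_dvd_iff_pow_eq_one.1 ?_
    interval_cases k
    · simp [e]
    · simp [e]
    · exact (h4 (isCyclic_of_orderOf_eq_card x (by rw [e, h6]; rfl))).elim
  rcases S4399.result h2 h6 h7 with e | e | ⟨k, e, a, b, e'⟩ | e
  · exact (hna (IsPGroup.isMulCommutative_of_card_eq_prime_sq (p := 2) e)).elim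
  · exact .inl e
  · exact .inr (.inl ⟨k, e, k + 3, by omega, e, a, b, e'⟩)
  · exact .inr (.inr e)

/-- `mc_grp` for a non-central element (centralizer of order `≤ 4`), and compare orders. -/
theorem d8q8 {S : Type*} [Group S] [Finite S] (h8 : Nat.card S = 8) (hna : ¬ IsMulCommutative S) :
    Nonempty (S ≃* DihedralGroup 4) ∨ Nonempty (S ≃* QuaternionGroup 2) := by
  have h2 : IsPGroup 2 S := IsPGroup.of_card (n := 3) h8
  obtain ⟨u, hu⟩ : ∃ u : S, centralizer ({u} : Set S) ≠ ⊤ := by
    by_contra! h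
    exact hna ⟨⟨fun a b => mem_centralizer_singleton_iff.1 (h b ▸ mem_top a)⟩⟩
  have h3 : Nat.card (centralizer ({u} : Set S)) ≤ 4 := by
    have h4 := (centralizer ({u} : Set S)).index_mul_card
    have h5 : (centralizer ({u} : Set S)).index ≠ 1 := fun e => hu (index_eq_one.1 e)
    have h6 : (centralizer ({u} : Set S)).index ≠ 0 := index_ne_zero_of_finite
    have h7 : 2 ≤ (centralizer ({u} : Set S)).index := by omega
    nlinarith
  rcases mc_grp h2 hna h3 with ⟨k, ⟨e⟩⟩ | ⟨k, e, -⟩ | ⟨k, ⟨e⟩⟩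
  · have h4 := Nat.card_congr e.toEquiv
    rw [h8, DihedralGroup.nat_card] at h4
    obtain rfl : k = 0 := by
      by_contra h5
      have := Nat.pow_le_pow_right two_pos (show 3 ≤ k + 2 by omega)
      omega
    exact .inl ⟨e⟩
  · have := Nat.pow_le_pow_right two_pos (show 4 ≤ k + 4 by omega)
    omega
  · have h4 := Nat.card_congr e.toEquiv
    rw [h8, Nat.card_eq_fintype_card, QuaternionGroup.card] at h4
    obtain rfl : k = 0 := by
      by_contra h5
      have := Nat.pow_le_pow_right two_pos (show 2 ≤ k + 1 by omega)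
      omega
    exact .inr ⟨e⟩

variable {G : Type*} [Group G] [Finite G] {M : Ideal AlgInt}

/-- `mc_grp`, then `S4528.result` (`5 = 2^(n-2) + 3`), `S4529.result` (`k ≥ 7`), `S4530.result`
(`5 = l + 2^(n-2) + 2`, `l ≥ 1`, `n ≥ 3`), with the defect group `P` (`S4652.result`). -/
theorem mc (hM : IsPModular 2 M) (P : Sylow 2 G) (hk : Nat.card (principalBlock M G) = 5)
    (hna : ¬ IsMulCommutative (P : Subgroup G)) {u : G} (hu : u ∈ (P : Subgroup G))
    (h4 : cc (P : Subgroup G) u < 8) : Nat.card (P : Subgroup G) = 8 := by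
  have := Fintype.ofFinite G
  have hD : IsDefectGroup 2 M (principalBlock M G) (P : Subgroup G) :=
    (S4652.result 2 M hM _).2 ⟨P, rfl⟩
  have h5 : Nat.card (centralizer ({⟨u, hu⟩} : Set (P : Subgroup G))) ≤ 4 := by
    have h6 : centralizer ({⟨u, hu⟩} : Set (P : Subgroup G)) =
        ((P : Subgroup G) ⊓ centralizer ({u} : Set G)).subgroupOf P := by
      ext x
      simp [mem_subgroupOf, mem_centralizer_singleton_iff, Subtype.ext_iff]
    rw [h6, Nat.card_congr (subgroupOfEquivOfLe inf_le_left).toEquiv]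
    obtain ⟨n, hn⟩ := IsPGroup.iff_card.1 (P.2.to_le (inf_le_left (b := centralizer ({u} : Set G))))
    have h7 : n < 3 := (Nat.pow_lt_pow_iff_right one_lt_two).1 (hn ▸ h4)
    rw [hn]
    exact Nat.pow_le_pow_right two_pos (show n ≤ 2 by omega)
  rcases mc_grp P.2 hna h5 with ⟨k, ⟨e⟩⟩ | ⟨k, e, e'⟩ | ⟨k, ⟨e⟩⟩
  · have h6 := (S4528.result M hM _ isPBlock_principal _ hD (k + 3) (by omega) ⟨e⟩).1
    rw [Nat.card_congr e.toEquiv, DihedralGroup.nat_card]
    rw [hk, show k + 3 - 2 = k + 1 from rfl] at h6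
    rw [pow_succ]
    omega
  · have h6 := (S4529.result M hM _ isPBlock_principal _ hD (k + 4) (by omega) e e').1
    have := Nat.pow_le_pow_right two_pos (show 2 ≤ k + 4 - 2 by omega)
    omega
  · obtain ⟨h6, -, h7, -⟩ := S4530.result M hM _ isPBlock_principal _ hD (k + 3) (by omega) ⟨e⟩
    rw [Nat.card_congr e.toEquiv, Nat.card_eq_fintype_card, QuaternionGroup.card]
    rw [hk, show k + 3 - 2 = k + 1 from rfl] at h7
    have := Nat.pow_le_pow_right two_pos (show 1 ≤ k + 1 by omega)
    omega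

end Cfsg.Agent.K5T
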